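import Groth.Agent.CohqA.SerreTop3
import Groth.Agent.Sga2.PnGoodDual
import Groth.Agent.Sga67.CMReg
import Groth.Agent.Sga67.SerreVB
import Groth.Agent.Gaga.H883.Serre
import Groth.Agent.S0038
import Groth.Agent.S0843
import Groth.Agent.S0844

/-!
# Horrocks' splitting criterion on `P^d_K`, `K` any field, `d ≥ 1`

* `Acm F`: `F` coherent, `H^0(F(n)) = 0` for `n ≪ 0` and `H^i(F(n)) = 0` for all `n`, `0 < i < d`.
* `Splits F`: `F` is a finite biproduct of twisting sheaves (unbundled decomposition data).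
* `splits_of_acm`, `acm_of_splits`, `splits_iff_nonempty_iso`.
-/

set_option autoImplicit false
universe u

open CategoryTheory CategoryTheory.Limits AlgebraicGeometry TopologicalSpace Opposite

namespace K272.Horrocks

open Groth.Agent
open Groth.Agent.Sga67.SerreVB (tw sumO)
open Groth.Agent.Sga2.PnTopDual Groth.Agent.Sga2.PnHHDelta Groth.Agent.CohqA.SerreTop Groth.Agent.CohqA.SerreTop2
open CohB1

attribute [local instance] Abelian.hasFiniteBiproducts

variable (K : Type u) [Field K] (d : ℕ)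

/-- the twisting sheaf -/
noncomputable abbrev O (a : ℤ) : (ProjSpace d K).Modules := Twist.twistProjSpace d K a

variable {K d}

/-- Cohomological hypotheses of Horrocks' criterion. -/
structure Acm (F : (ProjSpace d K).Modules) : Prop where
  coh : Coh.IsCoh F
  neg : ∃ n₀ : ℤ, ∀ n : ℤ, n ≤ n₀ → Subsingleton (Coh.HH (ProjSpace d K) ((tw d K n).obj F) 0)
  mid : ∀ (n : ℤ) (i : ℕ), 1 ≤ i → i < d → Subsingleton (Coh.HH (ProjSpace d K) ((tw d K n).obj F) i)

/-- A decomposition as a finite direct sum of twisting sheaves. -/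
def Splits (F : (ProjSpace d K).Modules) : Prop :=
  ∃ (r : ℕ) (a : Fin r → ℤ) (i : ∀ j, O K d (a j) ⟶ F) (p : ∀ j, F ⟶ O K d (a j)),
    (∀ j, i j ≫ p j = 𝟙 _) ∧ (∀ j l, j ≠ l → i j ≫ p l = 0) ∧ ∑ j, p j ≫ i j = 𝟙 F

theorem splits_of_isZero {F : (ProjSpace d K).Modules} (h : IsZero F) : Splits F :=
  ⟨0, Fin.elim0, fun j => j.elim0, fun j => j.elim0, fun j => j.elim0, fun j => j.elim0,
    h.eq_of_src _ _⟩

/-- Adding one summand. -/
theorem splits_cons {F F' : (ProjSpace d K).Modules} {b : ℤ} (i₀ : O K d b ⟶ F) (p₀ : F ⟶ O K d b)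
    (ι : F' ⟶ F) (ρ : F ⟶ F') (h1 : i₀ ≫ p₀ = 𝟙 _) (h2 : ι ≫ ρ = 𝟙 _) (h3 : i₀ ≫ ρ = 0) (h4 : ι ≫ p₀ = 0)
    (h5 : p₀ ≫ i₀ + ρ ≫ ι = 𝟙 F) (hF' : Splits F') : Splits F := by
  obtain ⟨r, a, i, p, hip, hip', htot⟩ := hF'
  refine ⟨r + 1, Fin.cons b a,
    Fin.cases (motive := fun j => O K d ((Fin.cons b a : Fin (r + 1) → ℤ) j) ⟶ F) i₀ (fun j => i j ≫ ι),
    Fin.cases (motive := fun j => F ⟶ O K d ((Fin.cons b a : Fin (r + 1) → ℤ) j)) p₀ (fun j => ρ ≫ p j),
    ?_, ?_, ?_⟩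
  · intro j
    induction j using Fin.cases with
    | zero => exact h1
    | succ j =>
      change (i j ≫ ι) ≫ (ρ ≫ p j) = 𝟙 _
      rw [Category.assoc, ← Category.assoc ι, h2, Category.id_comp]
      exact hip j
  · intro j l hjl
    induction j using Fin.cases with
    | zero =>
      induction l using Fin.cases with
      | zero => exact absurd rfl hjl
      | succ l =>
        change i₀ ≫ (ρ ≫ p l) = 0
        rw [← Category.assoc, h3, zero_comp]
    | succ j =>
      induction l using Fin.cases with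
      | zero =>
        change (i j ≫ ι) ≫ p₀ = 0
        rw [Category.assoc, h4, comp_zero]
      | succ l =>
        change (i j ≫ ι) ≫ (ρ ≫ p l) = 0
        rw [Category.assoc, ← Category.assoc ι, h2, Category.id_comp]
        exact hip' j l (fun h => hjl (congrArg Fin.succ h))
  · rw [Fin.sum_univ_succ]
    change p₀ ≫ i₀ + ∑ j : Fin r, (ρ ≫ p j) ≫ (i j ≫ ι) = 𝟙 F
    have h6 : ∑ j : Fin r, (ρ ≫ p j) ≫ (i j ≫ ι) = ρ ≫ ι := by
      have h7 : ∀ j, (ρ ≫ p j) ≫ (i j ≫ ι) = ρ ≫ (p j ≫ i j) ≫ ι := fun j => by simp only [Category.assoc]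
      simp only [h7]
      rw [← Preadditive.comp_sum, ← Preadditive.sum_comp, htot, Category.id_comp]
    rw [h6, h5]

theorem nonempty_iso_of_splits {F : (ProjSpace d K).Modules} (h : Splits F) :
    ∃ (r : ℕ) (a : Fin r → ℤ), Nonempty (F ≅ ∐ fun j => Twist.twistProjSpace d K (a j)) := by
  classical
  obtain ⟨r, a, i, p, hip, hip', htot⟩ := h
  refine ⟨r, a, ?_⟩
  let b : Bicone (fun j => Twist.twistProjSpace d K (a j)) :=
    { pt := F
      π := p
      ι := i
      ι_π := fun j l => by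
        by_cases h : j = l
        · subst h
          simp [hip]
        · simp [h, hip' j l h] }
  have hb : b.IsBilimit := isBilimitOfTotal b htot
  exact ⟨hb.isColimit.coconePointUniqueUpToIso (colimit.isColimit _)⟩

theorem splits_of_iso {r : ℕ} {a : Fin r → ℤ} {F : (ProjSpace d K).Modules}
    (e : F ≅ ∐ fun j => Twist.twistProjSpace d K (a j)) : Splits F := by
  classical
  let e' : F ≅ ⨁ fun j => Twist.twistProjSpace d K (a j) := e ≪≫ (biproduct.isoCoproduct _).symm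
  refine ⟨r, a, fun j => biproduct.ι (fun j => Twist.twistProjSpace d K (a j)) j ≫ e'.inv,
    fun j => e'.hom ≫ biproduct.π (fun j => Twist.twistProjSpace d K (a j)) j, ?_, ?_, ?_⟩
  · intro j
    rw [Category.assoc, e'.inv_hom_id_assoc, biproduct.ι_π_self]
  · intro j l h
    rw [Category.assoc, e'.inv_hom_id_assoc, biproduct.ι_π_ne _ h]
  · have h7 : ∀ j, (e'.hom ≫ biproduct.π (fun j => Twist.twistProjSpace d K (a j)) j) ≫
        biproduct.ι (fun j => Twist.twistProjSpace d K (a j)) j ≫ e'.inv =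
        e'.hom ≫ (biproduct.π (fun j => Twist.twistProjSpace d K (a j)) j ≫
          biproduct.ι (fun j => Twist.twistProjSpace d K (a j)) j) ≫ e'.inv := fun j => by
      simp only [Category.assoc]
    simp only [h7]
    rw [← Preadditive.comp_sum, ← Preadditive.sum_comp, biproduct.total, Category.id_comp, e'.hom_inv_id]

/-! ### Retracts -/

theorem subsingleton_of_retract {A B : (ProjSpace d K).Modules} (s : A ⟶ B) (q : B ⟶ A) (h : s ≫ q = 𝟙 A)
    (i : ℕ) (hB : Subsingleton (Coh.HH (ProjSpace d K) B i)) : Subsingleton (Coh.HH (ProjSpace d K) A i) := by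
  have key : ∀ x : (hF K (ProjSpace d K) i).obj A,
      ((hF K (ProjSpace d K) i).map q).hom (((hF K (ProjSpace d K) i).map s).hom x) = x := fun x => by
    rw [← LinearMap.comp_apply, ← ModuleCat.hom_comp, ← Functor.map_comp, h, CategoryTheory.Functor.map_id]
    rfl
  have hB' : Subsingleton ((hF K (ProjSpace d K) i).obj B) := hB
  exact (Function.LeftInverse.injective key).subsingleton

theorem isCoh_of_retract {A B : (ProjSpace d K).Modules} (s : A ⟶ B) (q : B ⟶ A) (h : s ≫ q = 𝟙 A)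
    (hB : Coh.IsCoh B) : Coh.IsCoh A := by
  have hnoeth : IsNoetherian (ProjSpace d K) := CohqA.ProjDim.isNoetherian K d
  have h1 : Coh.IsCoh (kernel (𝟙 B - q ≫ s)) := by
    exact PerfA.CohSerre.isCoh_kernel _ hB hB.1
  have h2 : s ≫ (𝟙 B - q ≫ s) = 0 := by
    rw [Preadditive.comp_sub, Category.comp_id, ← Category.assoc, h, Category.id_comp, sub_self]
  have e : A ≅ kernel (𝟙 B - q ≫ s) :=
    { hom := kernel.lift _ s h2
      inv := kernel.ι _ ≫ q
      hom_inv_id := by rw [kernel.lift_ι_assoc, h]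
      inv_hom_id := by
        rw [← cancel_mono (kernel.ι (𝟙 B - q ≫ s)), Category.assoc, kernel.lift_ι, Category.id_comp,
          Category.assoc]
        have := kernel.condition (𝟙 B - q ≫ s)
        rw [Preadditive.comp_sub, Category.comp_id, sub_eq_zero] at this
        exact this.symm }
  exact Sga67.CohBasic.isCoh_of_iso e.symm h1

theorem Acm.of_retract {A B : (ProjSpace d K).Modules} (s : A ⟶ B) (q : B ⟶ A) (h : s ≫ q = 𝟙 A)
    (hB : Acm B) : Acm A := by
  have h' : ∀ n : ℤ, (tw d K n).map s ≫ (tw d K n).map q = 𝟙 _ := fun n => by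
    rw [← Functor.map_comp, h, CategoryTheory.Functor.map_id]
  obtain ⟨n₀, hn⟩ := hB.neg
  exact ⟨isCoh_of_retract s q h hB.coh, ⟨n₀, fun n hn' => subsingleton_of_retract _ _ (h' n) 0 (hn n hn')⟩,
    fun n i hi hi' => subsingleton_of_retract _ _ (h' n) i (hB.mid n i hi hi')⟩


theorem reg_of_retract {A B : (ProjSpace d K).Modules} (s : A ⟶ B) (q : B ⟶ A) (h : s ≫ q = 𝟙 A) {m : ℤ}
    (hB : Sga67.CMReg.Reg B m) : Sga67.CMReg.Reg A m := by
  intro i hi hid
  have h' : (tw d K (m - i)).map s ≫ (tw d K (m - i)).map q = 𝟙 _ := by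
    rw [← Functor.map_comp, h, CategoryTheory.Functor.map_id]
  exact subsingleton_of_retract _ _ h' i (hB i hi hid)

/-! ### Regularity -/

theorem isZero_of_forall_reg {F : (ProjSpace d K).Modules} (hF : Acm F) (h : ∀ m : ℤ, Sga67.CMReg.Reg F m) :
    IsZero F := by
  obtain ⟨n₀, hn⟩ := hF.neg
  have hz : IsZero ((tw d K (n₀ - d)).obj F) := by
    refine Sga67.CMReg.isZero_of_vanishing (Sga67.SerreVB.isCoh_tw d K hF.coh _).1 ?_
    intro q j hj
    obtain ⟨e⟩ := Sga67.SerreVB.nonempty_tw_tw d K (n₀ - d) j F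
    refine Gaga.H883.Serre.HH_congr e.symm q ?_
    rcases Nat.eq_zero_or_pos q with rfl | hq
    · exact hn _ (by omega)
    · exact Sga67.CMReg.subsingleton_HH hF.coh.1 (h ((n₀ - d + j) + q)) q hq _ (by omega)
  obtain ⟨e⟩ := Sga67.SerreVB.nonempty_tw_tw d K (n₀ - d) (-(n₀ - d)) F
  rw [add_neg_cancel] at e
  obtain ⟨e'⟩ := Sga67.SerreVB.nonempty_tw_zero d K F
  exact ((tw d K (-(n₀ - d))).map_isZero hz).of_iso (e ≪≫ e').symm

theorem exists_reg {F : (ProjSpace d K).Modules} (hF : Coh.IsCoh F) : ∃ m : ℤ, Sga67.CMReg.Reg F m := by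
  obtain ⟨m₀, h⟩ := Gaga.H883.Serre.serre d K hF
  exact ⟨m₀ + d, fun q hq hqd => h _ (by omega) q hq⟩

theorem exists_min_reg {F : (ProjSpace d K).Modules} (hF : Acm F) (hz : ¬ IsZero F) :
    ∃ m : ℤ, Sga67.CMReg.Reg F m ∧ ¬ Sga67.CMReg.Reg F (m - 1) := by
  by_contra hcon
  push Not at hcon
  refine hz (isZero_of_forall_reg hF fun m => ?_)
  obtain ⟨m₀, hm₀⟩ := exists_reg hF.coh
  have h1 : ∀ k : ℕ, Sga67.CMReg.Reg F (m₀ - k) := by
    intro k
    induction k with
    | zero => simpa using hm₀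
    | succ k ih =>
      have := hcon _ ih
      have e : m₀ - (k : ℤ) - 1 = m₀ - ((k + 1 : ℕ) : ℤ) := by push_cast; ring
      rwa [e] at this
  exact (h1 (m₀ - m).toNat).mono hF.coh.1 (by omega)

/-! ### Splitting off `ω` -/

theorem exists_split_om {G : (ProjSpace d K).Modules} (hG : Coh.IsCoh G) {N : ℕ}
    (p : sumO d K N (-((d : ℤ) + 1)) ⟶ G) [Epi p] (hH : ¬ Subsingleton (Coh.HH (ProjSpace d K) G d)) :
    ∃ (s : om K d ⟶ G) (q : G ⟶ om K d), s ≫ q = 𝟙 _ := by
  have good := CohqA.SerreTop3.good_of_isCoh K d G hG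
  obtain ⟨φ, hφ⟩ : ∃ φ : G ⟶ om K d, φ ≠ 0 := by
    by_contra hcon
    push Not at hcon
    apply hH
    have h1 : ∀ x : (hF K (ProjSpace d K) d).obj G, x = 0 := fun x => by
      apply good.inj
      rw [map_zero]
      refine LinearMap.ext fun φ => ?_
      rw [theta_apply, hcon φ.hom, Functor.map_zero]
      rfl
    exact ⟨fun x y => (h1 x).trans (h1 y).symm⟩
  have hpφ : p ≫ φ ≠ 0 := fun h => hφ ((cancel_epi p).mp (h.trans comp_zero.symm))
  obtain ⟨j, hj⟩ : ∃ j, biproduct.ι (fun _ : Fin N => Twist.twistProjSpace d K (-((d : ℤ) + 1))) j ≫ p ≫ φ ≠ 0 := by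
    by_contra hcon
    push Not at hcon
    exact hpφ (biproduct.hom_ext' _ _ fun j => by rw [hcon j, comp_zero])
  have hgω := CohqA.SerreTop3.good_of_isCoh K d (om K d)
    (Gaga.H883.Serre.isCoh_O d K _)
  have hone := finrank_om K d
  have hfin := Module.finite_of_finrank_eq_succ hone
  have t : (hF K (ProjSpace d K) d).obj (om K d) ≃ₗ[K] K :=
    LinearEquiv.ofFinrankEq _ _ (hone.trans (Module.finrank_self K).symm)
  have h1 : Module.finrank K (HomTo (sig K (om K d)) (om K d)) = 1 :=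
    (Sga2.PnGoodDual.finrank_eq t hgω).symm.trans hone
  let v : HomTo (sig K (om K d)) (om K d) := HomTo.of _
    (biproduct.ι (fun _ : Fin N => Twist.twistProjSpace d K (-((d : ℤ) + 1))) j ≫ p ≫ φ)
  have hv : v ≠ 0 := hj
  obtain ⟨c, hc⟩ := (finrank_eq_one_iff_of_nonzero' v hv).mp h1 (HomTo.of _ (𝟙 _))
  refine ⟨biproduct.ι (fun _ : Fin N => Twist.twistProjSpace d K (-((d : ℤ) + 1))) j ≫ p,
    φ ≫ (sig K (om K d) c : om K d ⟶ om K d), ?_⟩
  have h2 : v.hom ≫ (sig K (om K d) c : om K d ⟶ om K d) = 𝟙 _ := hc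
  rw [← h2]
  simp only [v, Category.assoc]
  rfl

theorem not_subsingleton_H0 (a : ℤ) (ha : 0 ≤ a) :
    ¬ Subsingleton (Coh.HH (ProjSpace d K) (Twist.twistProjSpace d K a) 0) := by
  obtain ⟨n, rfl⟩ := Int.eq_ofNat_of_zero_le ha
  obtain ⟨e⟩ := S0843.result K d n
  intro h
  have h1 : Subsingleton ↥(MvPolynomial.homogeneousSubmodule (Fin (d + 1)) K n) := e.symm.toEquiv.subsingleton
  have h2 : (MvPolynomial.X (R := K) (0 : Fin (d + 1))) ^ n ∈ MvPolynomial.homogeneousSubmodule (Fin (d + 1)) K n :=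
    MvPolynomial.isHomogeneous_X_pow 0 n
  have h3 := congrArg Subtype.val (Subsingleton.elim (⟨_, h2⟩ : ↥(MvPolynomial.homogeneousSubmodule (Fin (d + 1)) K n)) 0)
  exact pow_ne_zero n (MvPolynomial.X_ne_zero (R := K) (0 : Fin (d + 1))) h3

theorem transport_retract {C : Type*} [Category C] {A B A' B' : C} (S : A' ⟶ B') (Q : B' ⟶ A')
    (h : S ≫ Q = 𝟙 A') (f : B' ≅ B) (g : A' ≅ A) : ∃ (s : A ⟶ B) (q : B ⟶ A), s ≫ q = 𝟙 A := by
  refine ⟨g.inv ≫ S ≫ f.hom, f.inv ≫ Q ≫ g.hom, ?_⟩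
  simp only [Category.assoc, Iso.hom_inv_id_assoc]
  rw [reassoc_of% h, g.inv_hom_id]

theorem splits_of_acm_aux (m₀ : ℤ) (h : ℕ) : ∀ F : (ProjSpace d K).Modules, Acm F → Sga67.CMReg.Reg F m₀ →
    Module.finrank K (Coh.HH (ProjSpace d K) ((tw d K m₀).obj F) 0) = h → Splits F := by
  induction h using Nat.strong_induction_on with
  | _ h ih =>
  intro F hF hreg hh
  by_cases hz : IsZero F
  · exact splits_of_isZero hz
  obtain ⟨m, hm, hm'⟩ := exists_min_reg hF hz
  have hle : m ≤ m₀ := by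
    by_contra hlt
    exact hm' (hreg.mono hF.coh.1 (by omega))
  have hH : ¬ Subsingleton (Coh.HH (ProjSpace d K) ((tw d K (m - ((d : ℤ) + 1))).obj F) d) := by
    intro hs
    apply hm'
    intro q hq hqd
    rcases Nat.lt_or_eq_of_le hqd with hlt | rfl
    · exact hF.mid _ q hq hlt
    · have e : m - 1 - (q : ℤ) = m - ((q : ℤ) + 1) := by ring
      rw [e]; exact hs
  have hcomp : CompactSpace (ProjSpace d K) := Sga67.SerreVB.compactSpace d K
  have hgg : Curv2.IsGloballyGenerated ((tw d K m).obj F) :=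
    Sga67.CMReg.isGloballyGenerated hF.coh.1 hm m le_rfl
  obtain ⟨N, p, hp⟩ := Sga67.SerreVB.exists_epi_freeMod (Sga67.SerreVB.isCoh_tw d K hF.coh m) hgg
  obtain ⟨e₁⟩ := Sga67.SerreVB.nonempty_freeMod_iso d K N
  obtain ⟨e₂⟩ := Sga67.SerreVB.nonempty_tw_sumO d K N 0 (-((d : ℤ) + 1))
  obtain ⟨e₃⟩ := Sga67.SerreVB.nonempty_tw_tw d K m (-((d : ℤ) + 1)) F
  rw [zero_add] at e₂
  rw [← sub_eq_add_neg] at e₃
  have := Sga67.SerreVB.epi_tw_map (Sga67.SerreVB.isInvertible_twist d K (-((d : ℤ) + 1))) p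
  obtain ⟨s, q, hsq⟩ := exists_split_om (Sga67.SerreVB.isCoh_tw d K hF.coh _)
    (e₂.inv ≫ (tw d K (-((d : ℤ) + 1))).map e₁.inv ≫ (tw d K (-((d : ℤ) + 1))).map p ≫ e₃.hom) hH
  obtain ⟨f₁⟩ := Sga67.SerreVB.nonempty_tw_tw d K (m - ((d : ℤ) + 1)) (-(m - ((d : ℤ) + 1))) F
  rw [add_neg_cancel] at f₁
  obtain ⟨f₂⟩ := Sga67.SerreVB.nonempty_tw_zero d K F
  obtain ⟨g⟩ := Sga67.SerreVB.nonempty_twist_mul d K (-((d : ℤ) + 1)) (-(m - ((d : ℤ) + 1)))
  have hg : -((d : ℤ) + 1) + -(m - ((d : ℤ) + 1)) = -m := by ring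
  rw [hg] at g
  obtain ⟨s', q', hsq'⟩ : ∃ (s' : O K d (-m) ⟶ F) (q' : F ⟶ O K d (-m)), s' ≫ q' = 𝟙 _ := by
    have hmm : (tw d K (-(m - ((d : ℤ) + 1)))).map s ≫ (tw d K (-(m - ((d : ℤ) + 1)))).map q = 𝟙 _ := by
      rw [← Functor.map_comp, hsq, CategoryTheory.Functor.map_id]
    exact transport_retract _ _ hmm (f₁ ≪≫ f₂) g
  have hρ : (𝟙 F - q' ≫ s') ≫ q' = 0 := by
    rw [Preadditive.sub_comp, Category.id_comp, Category.assoc, hsq', Category.comp_id, sub_self]
  have h2 : kernel.ι q' ≫ kernel.lift q' (𝟙 F - q' ≫ s') hρ = 𝟙 _ := by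
    rw [← cancel_mono (kernel.ι q'), Category.assoc, kernel.lift_ι, Preadditive.comp_sub, Category.comp_id,
      kernel.condition_assoc, zero_comp, sub_zero, Category.id_comp]
  have h3 : s' ≫ kernel.lift q' (𝟙 F - q' ≫ s') hρ = 0 := by
    rw [← cancel_mono (kernel.ι q'), Category.assoc, kernel.lift_ι, Preadditive.comp_sub, Category.comp_id,
      ← Category.assoc, hsq', Category.id_comp, sub_self, zero_comp]
  have h5 : q' ≫ s' + kernel.lift q' (𝟙 F - q' ≫ s') hρ ≫ kernel.ι q' = 𝟙 F := by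
    rw [kernel.lift_ι, add_sub_cancel]
  refine splits_cons s' q' (kernel.ι q') _ hsq' h2 h3 (kernel.condition q') h5 ?_
  refine ih _ ?_ _ (hF.of_retract _ _ h2) (reg_of_retract _ _ h2 hreg) rfl
  rw [← hh]
  let T : (ProjSpace d K).Modules ⥤ ModuleCat.{u} K := tw d K m₀ ⋙ Sga2.PnHHDelta.hF K (ProjSpace d K) 0
  have hfin : Module.Finite K (T.obj F) := S0038.result d K _ (Sga67.SerreVB.isCoh_tw d K hF.coh m₀) 0
  have hT : ∀ {A B C : (ProjSpace d K).Modules} (f : A ⟶ B) (g : B ⟶ C) (x : T.obj A),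
      (T.map g).hom ((T.map f).hom x) = (T.map (f ≫ g)).hom x := fun f g x => by
    rw [T.map_comp, ModuleCat.hom_comp, LinearMap.comp_apply]
  have hT1 : ∀ {A : (ProjSpace d K).Modules} (x : T.obj A), (T.map (𝟙 A)).hom x = x := fun x => by
    rw [T.map_id]; rfl
  have hT0 : ∀ {A B : (ProjSpace d K).Modules} (x : T.obj A), (T.map (0 : A ⟶ B)).hom x = 0 := fun x => by
    rw [T.map_zero]; rfl
  have hinj : Function.Injective (T.map (kernel.ι q')).hom := by
    intro x y hxy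
    have h6 := congrArg (T.map (kernel.lift q' (𝟙 F - q' ≫ s') hρ)).hom hxy
    rw [hT, hT, h2, hT1, hT1] at h6
    exact h6
  have hfin' : Module.Finite K (T.obj (kernel q')) := Module.Finite.of_injective _ hinj
  refine lt_of_le_of_ne (@LinearMap.finrank_le_finrank_of_injective _ _ _ _ _ _ _ _ _ hfin _ hinj) ?_
  intro heq
  have hs := (@LinearMap.injective_iff_surjective_of_finrank_eq_finrank _ _ _ _ _ _ _ _ hfin' hfin heq _).mp hinj
  obtain ⟨e⟩ := Sga67.SerreVB.nonempty_twist_mul d K (-m) m₀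
  refine not_subsingleton_H0 (K := K) (d := d) (-m + m₀) (by omega) (Gaga.H883.Serre.HH_congr e 0 ?_)
  have h7 : ∀ x : T.obj (O K d (-m)), x = 0 := fun x => by
    obtain ⟨y, hy⟩ := hs ((T.map s').hom x)
    have h8 := congrArg (T.map q').hom hy
    rw [hT, hT, hsq', hT1, kernel.condition, hT0] at h8
    exact h8.symm
  exact ⟨fun x y => (h7 x).trans (h7 y).symm⟩

/-- **Horrocks' criterion**, the hard direction. -/
theorem splits_of_acm {F : (ProjSpace d K).Modules} (hF : Acm F) : Splits F := by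
  obtain ⟨m₀, hm₀⟩ := exists_reg hF.coh
  exact splits_of_acm_aux m₀ _ F hF hm₀ rfl

/-- The easy direction. -/
theorem acm_of_splits (hd : 1 ≤ d) {F : (ProjSpace d K).Modules} (hc : Coh.IsCoh F) (h : Splits F) : Acm F := by
  obtain ⟨r, a, i, p, hip, hip', htot⟩ := h
  have key : ∀ (n : ℤ) (q : ℕ), (∀ j, Subsingleton (Coh.HH (ProjSpace d K) (Twist.twistProjSpace d K (a j + n)) q)) →
      Subsingleton (Coh.HH (ProjSpace d K) ((tw d K n).obj F) q) := by
    intro n q hs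
    let T : (ProjSpace d K).Modules ⥤ ModuleCat.{u} K := tw d K n ⋙ Sga2.PnHHDelta.hF K (ProjSpace d K) q
    have h0 : ∀ j (x : T.obj (O K d (a j))), x = 0 := fun j x => by
      obtain ⟨e⟩ := Sga67.SerreVB.nonempty_twist_mul d K (a j) n
      have := Gaga.H883.Serre.HH_congr e.symm q (hs j)
      exact @Subsingleton.elim (T.obj (O K d (a j))) this x 0
    have h1 : ∀ x : T.obj F, x = 0 := fun x => by
      have h2 : (T.map (𝟙 F)).hom x = x := by rw [T.map_id]; rfl
      rw [← h2, ← htot, T.map_sum, ModuleCat.hom_sum, LinearMap.sum_apply]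
      refine Finset.sum_eq_zero fun j _ => ?_
      rw [T.map_comp, ModuleCat.hom_comp, LinearMap.comp_apply, h0 j ((T.map (p j)).hom x), map_zero]
    exact ⟨fun x y => (h1 x).trans (h1 y).symm⟩
  refine ⟨hc, ?_, fun n q hq hqd => key n q fun j => S0844.result K d _ q (by omega) (by omega)⟩
  obtain ⟨b, hb⟩ : ∃ b : ℤ, ∀ j, a j ≤ b := by
    obtain ⟨b, hb⟩ := (Set.finite_range a).bddAbove
    exact ⟨b, fun j => hb ⟨j, rfl⟩⟩
  exact ⟨-b - 1, fun n hn => key n 0 fun j => S0844.result K d _ 0 (by have := hb j; omega) (by have := hb j; omega)⟩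

end K272.Horrocks
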