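import Groth.Agent.Krr.H463.Wedge

/-!
# The isomorphism `Λ^q E ≅ Hom(Λ^p E, Λ^n E)` for `E` finite locally free of rank `n = p + q`
-/

set_option autoImplicit false
universe u

open CategoryTheory CategoryTheory.Limits AlgebraicGeometry Opposite TopologicalSpace
open scoped TensorProduct

namespace K272.ExtPair

open Groth.Agent
open Groth.Agent.Sga67.Sec Groth.Agent.Sga67.LocBasis Groth.Agent.Sga67.ExtSheaf
open Groth.Agent.CohqB.HomSheaf (homSheaf)
open Groth.Agent.Krr.H463.HomBasis Groth.Agent.Krr.H463.HomTensor Groth.Agent.Krr.H463.Wedge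
open Groth.Agent.Krr.H487.ExtPull (bijective_of_locBasis)

section Alg

variable {R M : Type*} [CommRing R] [AddCommGroup M] [Module R M]

/-- Complements of subsets. -/
def cpl {p q n : ℕ} (h : p + q = n) : Set.powersetCard (Fin n) q ≃ Set.powersetCard (Fin n) p :=
  Set.powersetCard.compl (by rw [Fintype.card_fin]; exact h)

theorem disjoint_iff {p q n : ℕ} (h : p + q = n) (S : Set.powersetCard (Fin n) p) (T : Set.powersetCard (Fin n) q) :
    Disjoint S.val T.val ↔ S = cpl h T := by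
  have hS : S.val.card = p := S.2
  have hT : T.val.card = q := T.2
  constructor
  · intro hd
    apply Subtype.ext
    change S.val = (T.val)ᶜ
    refine Finset.eq_of_subset_of_card_le (fun i hi => ?_) ?_
    · rw [Finset.mem_compl]
      exact fun hi' => Finset.disjoint_left.mp hd hi hi'
    · rw [Finset.card_compl, Fintype.card_fin]
      omega
  · rintro rfl
    change Disjoint (T.val)ᶜ T.val
    exact disjoint_compl_left

theorem wedge_family_ne {p q n : ℕ} (h : p + q = n) (v : Fin n → M) (S : Set.powersetCard (Fin n) p)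
    (T : Set.powersetCard (Fin n) q) (hST : S ≠ cpl h T) :
    Sga67.ExtAlg.wedge h (exteriorPower.ιMulti_family R p v S) (exteriorPower.ιMulti_family R q v T) = 0 := by
  apply Subtype.ext
  rw [Sga67.ExtAlg.coe_wedge]
  exact ExteriorAlgebra.ιMulti_family_mul_of_not_disjoint R v S T (fun hd => hST ((disjoint_iff h S T).mp hd))

theorem wedge_family_compl {p q n : ℕ} (h : p + q = n) (v : Fin n → M)
    (T : Set.powersetCard (Fin n) q) :
    ∃ ε : ℤˣ, Sga67.ExtAlg.wedge h (exteriorPower.ιMulti_family R p v (cpl h T))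
      (exteriorPower.ιMulti_family R q v T) = ε • exteriorPower.ιMulti R n v := by
  subst h
  have hd : Disjoint (cpl rfl T).val T.val := (disjoint_iff rfl _ T).mpr rfl
  refine ⟨(Set.powersetCard.permOfDisjoint hd).sign, ?_⟩
  have h1 : Set.powersetCard.disjUnion hd = full (p + q) 0 := by
    obtain ⟨i, hi⟩ := (full (p + q)).surjective (Set.powersetCard.disjUnion hd)
    rw [← hi, Subsingleton.elim i 0]
  apply Subtype.ext
  rw [Sga67.ExtAlg.coe_wedge]
  have h2 := ExteriorAlgebra.ιMulti_family_mul_of_disjoint (R := R) v (cpl rfl T) T hd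
  refine h2.trans ?_
  rw [h1]
  have h3 := family_full (R := R) v (0 : Fin 1)
  have h4 := congrArg Subtype.val h3
  rw [Submodule.coe_smul_of_tower]
  exact congrArg _ h4

end Alg

variable {X : Scheme.{u}} {E L L' N : X.Modules}

theorem mu_id {R M : Type*} [CommRing R] [AddCommGroup M] [Module R M] {p q n : ℕ} (h : p + q = n)
    (x : ⋀[R]^p M) (y : ⋀[R]^q M) : Sga67.ExtAlg.mu h (LinearMap.id : M →ₗ[R] M) (x ⊗ₜ[R] y) =
      Sga67.ExtAlg.wedge h x y := by
  rw [Sga67.ExtAlg.mu_tmul, exteriorPower.map_id]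
  rfl

/-- The wedge product `Λ^p E ⊗ Λ^q E ⟶ Λ^n E`. -/
theorem exists_wedge' {p q n : ℕ} (h : p + q = n) (φ : Phi p E L) (hφ : PhiComp φ) (φ' : Phi q E L')
    (hφ' : PhiComp φ') (ψ : Phi n E N) (hψ : PhiComp ψ) :
    ∃ μ : CohB1.tensorMod L L' ⟶ N, ∀ (U : X.affineOpens) (x : Sec L U.1)
      (y : Sec L' U.1),
      ψ U (appS μ U.1 (tau L L' U.1 (x ⊗ₜ[Γ(X, U.1)] y))) = Sga67.ExtAlg.wedge h (φ U x) (φ' U y) := by
  obtain ⟨μ, hμ⟩ := exists_extMul h (𝟙 E) φ hφ φ' hφ' ψ hψ
  refine ⟨μ, fun U x y => ?_⟩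
  refine (hμ U _).trans ?_
  rw [TensorProduct.map_tmul]
  exact mu_id h _ _

set_option maxHeartbeats 1000000 in
/-- `Λ^q E ≅ Hom(Λ^p E, Λ^n E)` for `E` of rank `n = p + q`. -/
theorem nonempty_iso {p q n : ℕ} (h : p + q = n) (hE : FlatMod.IsFinLocFreeOfRank n E)
    (hL : ExtPow.IsExtPow p E L) (hL' : ExtPow.IsExtPow q E L')
    (hN : ExtPow.IsExtPow n E N) : Nonempty (L' ≅ homSheaf L N) := by
  obtain ⟨φ, hφ⟩ := exists_phi hL
  obtain ⟨φ', hφ'⟩ := exists_phi hL'
  obtain ⟨ψ, hψ⟩ := exists_phi hN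
  obtain ⟨μ, hμ⟩ := exists_wedge' h φ hφ φ' hφ' ψ hψ
  have : IsIso (Sga2.PnHomAdj.curry μ) := isIso_of_bijective _ (by
    intro x U hxU
    obtain ⟨W, hWU, e, hxW, he⟩ := exists_affine_basis hE hxU
    refine ⟨W.1, hWU, hxW, ?_⟩
    have h0 := isLocBasis_extPow (U := W) φ hφ he
    have h1 := isLocBasis_extPow (U := W) φ' hφ' he
    have h2 := (isLocBasis_extPow (U := W) ψ hψ he).reindex (full n)
    simp only [family_full] at h2
    choose ε hε using fun T => wedge_family_compl (R := Γ(X, W.1)) h e T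
    have h3 := isLocBasis_unit_smul ((isLocBasis_hsec (N := N) h0 h2).reindex (cpl h))
      (fun T => Units.map (Int.castRingHom Γ(X, W.1)).toMonoidHom (ε T))
    refine bijective_of_locBasis _ h1 h3 (fun T => ?_) le_rfl
    apply (ev_bijective (N := N) h0 le_rfl).1
    funext S
    rw [map_smul, ev_hsec, ev_apply, cS_curry, res_self, res_self]
    refine ((LinearEquiv.eq_symm_apply (ψ W)).mpr (hμ W _ _)).trans ?_
    rw [LinearEquiv.apply_symm_apply, LinearEquiv.apply_symm_apply]
    by_cases hS : S = cpl h T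
    · subst hS
      rw [hε, Pi.smul_apply, Pi.single_eq_same, Units.smul_def, map_zsmul]
      exact (Int.cast_smul_eq_zsmul Γ(X, W.1) _ _).symm
    · rw [wedge_family_ne h e S T hS, Pi.smul_apply, Pi.single_eq_of_ne hS, smul_zero, map_zero])
  exact ⟨asIso (Sga2.PnHomAdj.curry μ)⟩

end K272.ExtPair
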