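import Groth.Agent.ProjDual.K273.Van
import Groth.Agent.ProjDual.K273.Dim
import Groth.Agent.S3630
import Groth.Agent.Sga5.ProjReg
import Groth.Agent.IntTh.K711.ProjDim
import Groth.Agent.Ega3B.ProjProper

/-!
# `Ext^i(i_*O_X, F) = 0` below the codimension on `P^N_k`
-/

set_option autoImplicit false
universe u

open CategoryTheory CategoryTheory.Limits AlgebraicGeometry TopologicalSpace

namespace K272.PnVan

open Groth.Agent Groth.Agent.CycB.RelDim

variable (k : Type u) [Field k] (N : ℕ)

theorem component_dim (Z : Set (CohB1.ProjSpace N k)) (hZ : Z ∈ irreducibleComponents (CohB1.ProjSpace N k)) :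
    topologicalKrullDim Z = (N : WithBot ℕ∞) := by
  have hint : IsIntegral (CohB1.ProjSpace N k) := K711.ProjDim.isIntegral_projSpace N k
  have h1 : Z = Set.univ := by
    rw [irreducibleComponents_eq_singleton] at hZ
    exact hZ
  subst h1
  rw [← K711.ProjDim.topologicalKrullDim_projSpace N k]
  exact IsHomeomorph.topologicalKrullDim_eq _ (Homeomorph.Set.univ _).isHomeomorph

variable {N} {X : Scheme.{u}} (ι : X ⟶ CohB1.ProjSpace N k) [IsClosedImmersion ι]

/-- Codimension: `dim O_{P, ι(x)} ≥ N - dim X`. -/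
theorem exists_dim (x : X) : ∃ a t : ℕ, ringKrullDim ((CohB1.ProjSpace N k).presheaf.stalk (ι x)) = a ∧
    (t : WithBot ℕ∞) ≤ topologicalKrullDim X ∧ a + t = N := by
  have hprop : IsProper (CohB1.ProjSpace.toSpec N k) := Ega3B.ProjProper.isProper_toSpec N k
  obtain ⟨a, t, ha, ht, hat⟩ := K273.Dim.exists_dims (CohB1.ProjSpace.toSpec N k) N (component_dim k N) (ι x)
  obtain ⟨Z, j, hj, hZ, -, hr⟩ := Groth.Agent.Fga.IntegralSub.exists_integral_closed x
  have hx : x ∈ Set.range j := by
    rw [hr]
    exact subset_closure rfl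
  obtain ⟨z, rfl⟩ := hx
  obtain ⟨a', t', n', ha', ht', hn', hat'⟩ := K273.Dim.exists_dims_sub (CohB1.ProjSpace.toSpec N k) (j ≫ ι) z
  refine ⟨a, t, ha, ?_, hat⟩
  have htt : t = t' := by
    have h : ((t : ℕ) : Cardinal.{u}) = t' := by rw [← ht, ← ht']; rfl
    exact_mod_cast h
  have h1 : topologicalKrullDim (Set.range (j ≫ ι) : Set (CohB1.ProjSpace N k)) = topologicalKrullDim Z :=
    (IsHomeomorph.topologicalKrullDim_eq _ (j ≫ ι).isEmbedding.toHomeomorph.isHomeomorph).symm
  have h2 : topologicalKrullDim Z ≤ topologicalKrullDim X := j.isEmbedding.isInducing.topologicalKrullDim_le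
  rw [← h1, hn'] at h2
  refine le_trans ?_ h2
  have h3 : t ≤ n' := by omega
  exact_mod_cast h3

theorem isZero_extSh (r : ℕ) (hr : topologicalKrullDim X + (r : WithBot ℕ∞) ≤ (N : WithBot ℕ∞))
    [ModSite.HasSheafHom (O := (CohB1.ProjSpace N k).sheaf) ((Scheme.Modules.pushforward ι).obj (Coh.structureModule X))]
    [HasInjectiveResolutions (ModSite.Mod (CohB1.ProjSpace N k).sheaf)] (i : ℕ) (hi : i < r)
    (F : (CohB1.ProjSpace N k).Modules) (hF : FlatMod.IsFinLocFreeOfRank 1 F) :
    IsZero ((ModSite.extSh (O := (CohB1.ProjSpace N k).sheaf)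
      ((Scheme.Modules.pushforward ι).obj (Coh.structureModule X)) i).obj F) := by
  have := Groth.Agent.S3630.result X (CohB1.ProjSpace N k) ι
  have hinj : HasInjectiveResolutions (CohB1.ProjSpace N k).Modules :=
    inferInstanceAs (HasInjectiveResolutions (ModSite.Mod (CohB1.ProjSpace N k).sheaf))
  have hPN : IsNoetherian (CohB1.ProjSpace N k) := Sga5.ProjReg.isNoetherian_projSpace N k
  let R : InjectiveResolution F := injectiveResolution F
  have h0 := K273.Van.isZero_homology_of_dim_ne (i := ι) (Sga5.ProjReg.isRegularLocalRing_stalk N k) R hF i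
    fun x => by
      obtain ⟨a, t, ha, ht, hat⟩ := exists_dim k ι x
      rw [ha]
      intro h
      have h' : a = i := by exact_mod_cast h
      have h2 : ((t + r : ℕ) : WithBot ℕ∞) ≤ (N : WithBot ℕ∞) := by
        push_cast
        exact (add_le_add_left ht _).trans hr
      have h3 : t + r ≤ N := by exact_mod_cast h2
      omega
  exact ((Scheme.Modules.pushforward ι).map_isZero h0).of_iso (K273.ExtHomO.extShPushIso ι R i)

end K272.PnVan
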