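import Groth.Agent.Ega2.TensMon
import Groth.Agent.CohqB.SerTw

/-!
# Twisting by an invertible module is an equivalence

* `twComp`: `- ⊗ A ⊗ B ≅ - ⊗ (A ⊗ B)`; `twCongr`; `twUnit`;
* `isEquivalence_tw`: `- ⊗ A` is an equivalence if `A ⊗ B ≅ O`.
-/

set_option autoImplicit false
universe u

open CategoryTheory CategoryTheory.Limits AlgebraicGeometry Opposite TopologicalSpace

namespace K272.TwEquiv

open Groth.Agent Groth.Agent.Ega2 Groth.Agent.Ega2.Tens
open Groth.Agent.CohqB.SerTw (tw)

variable {X : Scheme.{u}}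

/-- Associativity. -/
noncomputable def twComp (A B : X.Modules) : tw A ⋙ tw B ≅ tw (CohB1.tensorMod A B) :=
  NatIso.ofComponents (fun M => assoc M A B) (fun {M N} f => by
    refine hom_ext₃ _ _ fun U m a b => ?_
    change (mapT (mapT f (𝟙 A)) (𝟙 B) ≫ assocHom N A B).app U _ =
      (assocHom M A B ≫ mapT f (𝟙 (CohB1.tensorMod A B))).app U _
    simp)

/-- Functoriality in the twisting module. -/
noncomputable def twCongr {A B : X.Modules} (e : A ≅ B) : tw A ≅ tw B :=
  NatIso.ofComponents (fun M => mapTIso (Iso.refl M) e) (fun {M N} f => by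
    change mapT f (𝟙 A) ≫ mapT (𝟙 N) e.hom = mapT (𝟙 M) e.hom ≫ mapT f (𝟙 B)
    rw [← mapT_comp, ← mapT_comp, Category.comp_id, Category.id_comp, Category.id_comp, Category.comp_id])

/-- Twisting by the structure sheaf. -/
noncomputable def twUnit : tw (Coh.structureModule X) ≅ 𝟭 X.Modules :=
  NatIso.ofComponents (fun M => runit M) (fun {M N} f => by
    refine hom_ext _ _ fun U m a => ?_
    have h1 := runit_hom_tmul (N := M) (U := U) a m
    have h2 := runit_hom_tmul (N := N) (U := U) a (f.app U m)
    change (runit N).hom.app U ((mapT f (𝟙 _)).app U (tmul m a)) = f.app U ((runit M).hom.app U (tmul m a))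
    rw [mapT_tmul]
    refine h2.trans ?_
    refine (Scheme.Modules.Hom.app_smul f a m).symm.trans ?_
    exact congrArg (f.app U) h1.symm)

/-- Twisting by an invertible module is an equivalence. -/
theorem isEquivalence_tw {A B : X.Modules} (e : CohB1.tensorMod A B ≅ Coh.structureModule X) :
    (tw A).IsEquivalence := by
  let E : X.Modules ≌ X.Modules := CategoryTheory.Equivalence.mk (tw A) (tw B)
    ((twComp A B ≪≫ twCongr e ≪≫ twUnit).symm)
    (twComp B A ≪≫ twCongr (swap B A ≪≫ e) ≪≫ twUnit)
  exact E.isEquivalence_functor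

end K272.TwEquiv
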