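import Groth.Agent.ProjDual.K272.Horrocks
import Groth.Agent.ProjDual.K272.TwEquiv
import Groth.Agent.CurvesB.Pairing
import Groth.Agent.CurvesB.HZero

/-!
# Length one resolutions by sums of twists on `P^d_K`

`exists_res`: `F` coherent on `P^d_K`, `d ≥ 2`, `H^0(F(n)) = 0` for `n ≤ 0` and `H^i(F(n)) = 0` for `0 < i < d - 1`;
then `0 → ⊕ O(a_i) → ⊕ O(b_j) → F → 0` with all `a_i, b_j < 0`.
-/

set_option autoImplicit false
universe u

open CategoryTheory CategoryTheory.Limits AlgebraicGeometry TopologicalSpace Opposite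

namespace K272.GradRes

open Groth.Agent
open Groth.Agent.Sga67.SerreVB (tw sumO)
open K272.Horrocks
open CohB1
open Groth.Agent.CohqB.HSeqMod (hmap δ)

attribute [local instance] Abelian.hasFiniteBiproducts

variable {K : Type u} [Field K] {d : ℕ}

/-- A decomposition indexed by a finite type, with a condition on the twists. -/
def SplitsP (P : ℤ → Prop) (F : (ProjSpace d K).Modules) : Prop :=
  ∃ (ι : Type) (_ : Fintype ι) (a : ι → ℤ) (i : ∀ j, O K d (a j) ⟶ F) (p : ∀ j, F ⟶ O K d (a j)),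
    (∀ j, P (a j)) ∧ (∀ j, i j ≫ p j = 𝟙 _) ∧ (∀ j l, j ≠ l → i j ≫ p l = 0) ∧ ∑ j, p j ≫ i j = 𝟙 F

variable {P : ℤ → Prop} {F G : (ProjSpace d K).Modules}

theorem SplitsP.toFin (h : SplitsP P F) : ∃ (r : ℕ) (a : Fin r → ℤ) (i : ∀ j, O K d (a j) ⟶ F)
    (p : ∀ j, F ⟶ O K d (a j)), (∀ j, P (a j)) ∧ (∀ j, i j ≫ p j = 𝟙 _) ∧ (∀ j l, j ≠ l → i j ≫ p l = 0) ∧
      ∑ j, p j ≫ i j = 𝟙 F := by
  obtain ⟨ι, _, a, i, p, hP, h1, h2, h3⟩ := h
  let e := (Fintype.equivFin ι).symm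
  refine ⟨Fintype.card ι, fun j => a (e j), fun j => i (e j), fun j => p (e j), fun j => hP _, fun j => h1 _,
    fun j l hjl => h2 _ _ (fun h => hjl (e.injective h)), ?_⟩
  rw [← h3]
  exact Fintype.sum_equiv e _ _ fun _ => rfl

theorem SplitsP.splits (h : SplitsP P F) : Splits F := by
  obtain ⟨r, a, i, p, -, h1, h2, h3⟩ := h.toFin
  exact ⟨r, a, i, p, h1, h2, h3⟩

theorem SplitsP.nonempty_iso (h : SplitsP P F) :
    ∃ (r : ℕ) (a : Fin r → ℤ), (∀ j, P (a j)) ∧ Nonempty (F ≅ ∐ fun j => Twist.twistProjSpace d K (a j)) := by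
  classical
  obtain ⟨r, a, i, p, hP, hip, hip', htot⟩ := h.toFin
  refine ⟨r, a, hP, ?_⟩
  let b : Bicone (fun j => Twist.twistProjSpace d K (a j)) :=
    { pt := F
      π := p
      ι := i
      ι_π := fun j l => by
        by_cases h : j = l
        · subst h
          simp [hip]
        · simp [h, hip' j l h] }
  have hb : b.IsBilimit := isBilimitOfTotal b htot
  exact ⟨hb.isColimit.coconePointUniqueUpToIso (colimit.isColimit _)⟩

theorem SplitsP.isCoh (h : SplitsP P F) : Coh.IsCoh F := by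
  have hnoeth : IsNoetherian (ProjSpace d K) := CohqA.ProjDim.isNoetherian K d
  obtain ⟨r, a, -, ⟨e⟩⟩ := h.nonempty_iso
  exact Sga67.CohBasic.isCoh_of_iso e.symm
    (CycB.CohProp.isCoh_finite_coproduct _ fun j => Gaga.H883.Serre.isCoh_O d K (a j))

theorem SplitsP.of_iso (e : F ≅ G) (h : SplitsP P F) : SplitsP P G := by
  obtain ⟨ι, _, a, i, p, hP, h1, h2, h3⟩ := h
  refine ⟨ι, inferInstance, a, fun j => i j ≫ e.hom, fun j => e.inv ≫ p j, hP, fun j => ?_, fun j l hjl => ?_, ?_⟩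
  · rw [Category.assoc, e.hom_inv_id_assoc, h1]
  · rw [Category.assoc, e.hom_inv_id_assoc, h2 j l hjl]
  · have h7 : ∀ j, (e.inv ≫ p j) ≫ i j ≫ e.hom = e.inv ≫ (p j ≫ i j) ≫ e.hom := fun j => by
      simp only [Category.assoc]
    simp only [h7]
    rw [← Preadditive.comp_sum, ← Preadditive.sum_comp, h3, Category.id_comp, e.inv_hom_id]

theorem SplitsP.biproduct {J : Type} [Fintype J] (F : J → (ProjSpace d K).Modules) (h : ∀ j, SplitsP P (F j)) :
    SplitsP P (⨁ F) := by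
  classical
  choose ι hι a i p hP h1 h2 h3 using h
  refine ⟨Σ j, ι j, inferInstance, fun x => a x.1 x.2, fun x => i x.1 x.2 ≫ biproduct.ι F x.1,
    fun x => biproduct.π F x.1 ≫ p x.1 x.2, fun x => hP _ _, fun x => ?_, ?_, ?_⟩
  · rw [Category.assoc, biproduct.ι_π_self_assoc, h1]
  · rintro ⟨x, s⟩ ⟨y, t⟩ hxy
    by_cases hxy' : x = y
    · subst hxy'
      rw [Category.assoc, biproduct.ι_π_self_assoc]
      exact h2 x s t fun h => hxy (by rw [h])
    · rw [Category.assoc, biproduct.ι_π_ne_assoc F hxy', zero_comp, comp_zero]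
  · rw [← Finset.univ_sigma_univ, Finset.sum_sigma]
    have h7 : ∀ j (s : ι j), (biproduct.π F j ≫ p j s) ≫ i j s ≫ biproduct.ι F j =
        biproduct.π F j ≫ (p j s ≫ i j s) ≫ biproduct.ι F j := fun j s => by
      simp only [Category.assoc]
    simp only [h7]
    have h8 : ∀ j, ∑ s, biproduct.π F j ≫ (p j s ≫ i j s) ≫ biproduct.ι F j =
        biproduct.π F j ≫ biproduct.ι F j := fun j => by
      rw [← Preadditive.comp_sum, ← Preadditive.sum_comp, h3, Category.id_comp]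
    simp only [h8]
    exact biproduct.total

theorem SplitsP.tw (n : ℤ) (h : SplitsP (fun a => P (a + n)) F) : SplitsP P ((tw d K n).obj F) := by
  obtain ⟨ι, _, a, i, p, hP, h1, h2, h3⟩ := h
  have g : ∀ j, (Sga67.SerreVB.tw d K n).obj (O K d (a j)) ≅ O K d (a j + n) := fun j =>
    (Sga67.SerreVB.nonempty_twist_mul d K (a j) n).some
  refine ⟨ι, inferInstance, fun j => a j + n, fun j => (g j).inv ≫ (Sga67.SerreVB.tw d K n).map (i j),
    fun j => (Sga67.SerreVB.tw d K n).map (p j) ≫ (g j).hom, hP, fun j => ?_, fun j l hjl => ?_, ?_⟩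
  · rw [Category.assoc, ← Functor.map_comp_assoc, h1, CategoryTheory.Functor.map_id, Category.id_comp, (g j).inv_hom_id]
  · rw [Category.assoc, ← Functor.map_comp_assoc, h2 j l hjl, Functor.map_zero, zero_comp, comp_zero]
  · have h7 : ∀ j, ((Sga67.SerreVB.tw d K n).map (p j) ≫ (g j).hom) ≫ (g j).inv ≫ (Sga67.SerreVB.tw d K n).map (i j) =
        (Sga67.SerreVB.tw d K n).map (p j ≫ i j) := fun j => by
      rw [Category.assoc, (g j).hom_inv_id_assoc, Functor.map_comp]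
    simp only [h7]
    rw [← Functor.map_sum, h3, CategoryTheory.Functor.map_id]

theorem splitsP_O (a : ℤ) (ha : P a) : SplitsP P (O K d a) :=
  ⟨Unit, inferInstance, fun _ => a, fun _ => 𝟙 _, fun _ => 𝟙 _, fun _ => ha, fun _ => Category.id_comp _,
    fun j l h => absurd (Subsingleton.elim j l) h, by simp⟩

theorem splitsP_freeMod (N : ℕ) (h0 : P 0) : SplitsP P (FlatMod.freeMod (ProjSpace d K) N) := by
  obtain ⟨e⟩ := Sga67.SerreVB.nonempty_freeMod_iso d K N
  exact (SplitsP.biproduct (fun _ : Fin N => O K d 0) fun _ => splitsP_O 0 h0).of_iso e.symm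

/-- Vanishing of the cohomology of a sum of twists. -/
theorem SplitsP.vanish (h : SplitsP P F) (n : ℤ) (q : ℕ) (h0 : ¬ (q = 0 ∧ ∃ a, P a ∧ 0 ≤ a + n))
    (hd : ¬ (q = d ∧ ∃ a, P a ∧ a + n ≤ -((d : ℤ) + 1))) :
    Subsingleton (Coh.HH (ProjSpace d K) ((Sga67.SerreVB.tw d K n).obj F) q) := by
  obtain ⟨ι, _, a, i, p, hP, h1, h2, h3⟩ := h
  let T : (ProjSpace d K).Modules ⥤ ModuleCat.{u} K := Sga67.SerreVB.tw d K n ⋙ Sga2.PnHHDelta.hF K (ProjSpace d K) q
  have h0 : ∀ j (x : T.obj (O K d (a j))), x = 0 := fun j x => by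
    obtain ⟨e⟩ := Sga67.SerreVB.nonempty_twist_mul d K (a j) n
    have := Gaga.H883.Serre.HH_congr e.symm q (S0844.result K d (a j + n) q (fun h => h0 ⟨h.1, a j, hP j, h.2⟩)
      (fun h => hd ⟨h.1, a j, hP j, h.2⟩))
    exact @Subsingleton.elim (T.obj (O K d (a j))) this x 0
  have h1 : ∀ x : T.obj F, x = 0 := fun x => by
    have h2 : (T.map (𝟙 F)).hom x = x := by rw [T.map_id]; rfl
    rw [← h2, ← h3, T.map_sum, ModuleCat.hom_sum, LinearMap.sum_apply]
    refine Finset.sum_eq_zero fun j _ => ?_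
    rw [T.map_comp, ModuleCat.hom_comp, LinearMap.comp_apply, h0 j ((T.map (p j)).hom x), map_zero]
  exact ⟨fun x y => (h1 x).trans (h1 y).symm⟩

/-- A sum of twists without sections has negative twists. -/
theorem Splits.neg (h : Splits F) (h0 : Subsingleton (Coh.HH (ProjSpace d K) F 0)) : SplitsP (fun a => a < 0) F := by
  obtain ⟨r, a, i, p, h1, h2, h3⟩ := h
  refine ⟨Fin r, inferInstance, a, i, p, fun j => ?_, h1, h2, h3⟩
  by_contra hcon
  exact not_subsingleton_H0 (K := K) (d := d) (a j) (by omega) (subsingleton_of_retract _ _ (h1 j) 0 h0)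

/-! ### Sections -/

theorem exists_unit_hom {X : Scheme.{u}} {M : X.Modules} (x : Coh.HH X M 0) :
    ∃ (φ : Coh.structureModule X ⟶ M) (y : Coh.HH X (Coh.structureModule X) 0), hmap φ 0 y = x := by
  refine ⟨CurvesB.Pairing.secHom M (CurvesB.HZero.equivAdd M x),
    (CurvesB.HZero.equivAdd (Coh.structureModule X)).symm (1 : Γ(X, ⊤)), ?_⟩
  apply (CurvesB.HZero.equivAdd M).injective
  refine (CurvesB.HZero.equivAdd_map _ _).trans ?_
  refine (congrArg ((CurvesB.Pairing.secHom M (CurvesB.HZero.equivAdd M x)).app ⊤)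
    (AddEquiv.apply_symm_apply (CurvesB.HZero.equivAdd (Coh.structureModule X)) (1 : Γ(X, ⊤)))).trans ?_
  exact CurvesB.Pairing.homSec_secHom M _

theorem exists_free_surj {M : (ProjSpace d K).Modules} [Module.Finite K (Coh.HH (ProjSpace d K) M 0)] :
    ∃ (N : ℕ) (p : FlatMod.freeMod (ProjSpace d K) N ⟶ M), Function.Surjective (hmap p 0) := by
  obtain ⟨N, x, hx⟩ := Module.Finite.exists_fin (R := K) (M := Coh.HH (ProjSpace d K) M 0)
  choose φ y hy using fun i => exists_unit_hom (x i)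
  let p : FlatMod.freeMod (ProjSpace d K) N ⟶ M := Sigma.desc φ
  refine ⟨N, p, ?_⟩
  let T := Sga2.PnHHDelta.hF K (ProjSpace d K) 0
  have h1 : ∀ i, x i ∈ LinearMap.range (T.map p).hom := fun i => by
    refine ⟨hmap (Sigma.ι (fun _ : Fin N => Coh.structureModule (ProjSpace d K)) i) 0 (y i), ?_⟩
    refine (CohqB.HSeqMod.hmap_comp_apply _ p 0 (y i)).symm.trans ?_
    rw [Sigma.ι_desc]
    exact hy i
  have h2 : LinearMap.range (T.map p).hom = ⊤ := by
    rw [eq_top_iff]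
    refine le_trans hx.ge (Submodule.span_le.mpr ?_)
    rintro _ ⟨i, rfl⟩
    exact h1 i
  exact LinearMap.range_eq_top.mp h2

/-- A map from a free module which is surjective on sections is epi if the target is globally generated. -/
theorem epi_of_surj {M : (ProjSpace d K).Modules} (hM : Coh.IsCoh M) (hg : Curv2.IsGloballyGenerated M) {N : ℕ}
    (p : FlatMod.freeMod (ProjSpace d K) N ⟶ M) (hp : Function.Surjective (hmap p 0)) : Epi p := by
  have hcomp : CompactSpace (ProjSpace d K) := Sga67.SerreVB.compactSpace d K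
  obtain ⟨N', p', hp'⟩ := Sga67.SerreVB.exists_epi_freeMod hM hg
  have h1 : ∀ φ : Coh.structureModule (ProjSpace d K) ⟶ M, ∃ ψ : Coh.structureModule (ProjSpace d K) ⟶
      FlatMod.freeMod (ProjSpace d K) N, ψ ≫ p = φ := by
    intro φ
    obtain ⟨x, hx⟩ := hp ((CurvesB.HZero.equivAdd M).symm (CurvesB.Pairing.homSec φ))
    refine ⟨CurvesB.Pairing.secHom _ (CurvesB.HZero.equivAdd _ x), ?_⟩
    rw [CurvesB.Pairing.secHom_comp]
    have h2 : p.app ⊤ (CurvesB.HZero.equivAdd _ x) = CurvesB.Pairing.homSec φ := by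
      refine (CurvesB.HZero.equivAdd_map p x).symm.trans ?_
      refine (congrArg (CurvesB.HZero.equivAdd M) hx).trans ?_
      rw [AddEquiv.apply_symm_apply]
    rw [h2, CurvesB.Pairing.secHom_homSec]
  choose ψ hψ using fun i => h1 (Sigma.ι (fun _ : Fin N' => Coh.structureModule (ProjSpace d K)) i ≫ p')
  have h2 : Sigma.desc ψ ≫ p = p' := Sigma.hom_ext _ _ fun i => by rw [Sigma.ι_desc_assoc, hψ]
  have : Epi (Sigma.desc ψ ≫ p) := by rw [h2]; exact hp'
  exact epi_of_epi (Sigma.desc ψ) p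

/-- A map from `O(-n)^N` which is surjective on `H^0` after twisting by `n`. -/
theorem exists_twist_surj (hF : Coh.IsCoh F) (n : ℤ) : ∃ (N : ℕ)
    (q : (Sga67.SerreVB.tw d K (-n)).obj (FlatMod.freeMod (ProjSpace d K) N) ⟶ F),
      Function.Surjective (hmap ((Sga67.SerreVB.tw d K n).map q) 0) ∧
      (Curv2.IsGloballyGenerated ((Sga67.SerreVB.tw d K n).obj F) → Epi q) := by
  have hc := Sga67.SerreVB.isCoh_tw d K hF n
  have hfin : Module.Finite K (Coh.HH (ProjSpace d K) ((Sga67.SerreVB.tw d K n).obj F) 0) := S0038.result d K _ hc 0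
  obtain ⟨N, p, hp⟩ := exists_free_surj (M := (Sga67.SerreVB.tw d K n).obj F)
  obtain ⟨e⟩ := Sga67.SerreVB.nonempty_tw_tw d K (-n) n (FlatMod.freeMod (ProjSpace d K) N)
  rw [neg_add_cancel] at e
  obtain ⟨e'⟩ := Sga67.SerreVB.nonempty_tw_zero d K (FlatMod.freeMod (ProjSpace d K) N)
  obtain ⟨e₁⟩ := Sga67.SerreVB.nonempty_twist_mul d K n (-n)
  rw [add_neg_cancel] at e₁
  obtain ⟨e₂⟩ := Sga67.SerreVB.nonempty_twist_zero d K
  have hequiv : (Sga67.SerreVB.tw d K n).IsEquivalence := TwEquiv.isEquivalence_tw (e₁ ≪≫ e₂)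
  refine ⟨N, (Sga67.SerreVB.tw d K n).preimage ((e ≪≫ e').hom ≫ p), ?_, fun hg => ?_⟩
  · rw [Functor.map_preimage]
    intro x
    obtain ⟨y, hy⟩ := hp x
    refine ⟨hmap (e ≪≫ e').inv 0 y, ?_⟩
    rw [CohqB.HSeqMod.hmap_comp_apply, ← CohqB.HSeqMod.hmap_comp_apply (e ≪≫ e').inv, Iso.inv_hom_id,
      CohqB.HSeqMod.hmap_id_apply]
    exact hy
  · have h1 := epi_of_surj hc hg p hp
    have h2 : Epi ((Sga67.SerreVB.tw d K n).map ((Sga67.SerreVB.tw d K n).preimage ((e ≪≫ e').hom ≫ p))) := by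
      rw [Functor.map_preimage]
      exact epi_comp _ _
    exact (Sga67.SerreVB.tw d K n).epi_of_epi_map h2

/-- Cover by negative twists, surjective on sections in all degrees between `1` and `m`. -/
theorem exists_cover (hF : Coh.IsCoh F) (m : ℕ) (hm : 1 ≤ m) (hreg : Sga67.CMReg.Reg F m) :
    ∃ (G : (ProjSpace d K).Modules) (p : G ⟶ F), Epi p ∧ SplitsP (fun a => a < 0 ∧ -(m : ℤ) ≤ a) G ∧
      ∀ n : ℤ, 1 ≤ n → n ≤ m → Function.Surjective (hmap ((Sga67.SerreVB.tw d K n).map p) 0) := by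
  choose N q hq hq' using fun j : Fin m => exists_twist_surj hF ((j.1 : ℤ) + 1)
  refine ⟨⨁ fun j : Fin m => (Sga67.SerreVB.tw d K (-((j.1 : ℤ) + 1))).obj (FlatMod.freeMod (ProjSpace d K) (N j)),
    biproduct.desc q, ?_, ?_, ?_⟩
  · have h1 : Epi (q ⟨m - 1, by omega⟩) := hq' _ (by
      have h2 : (((⟨m - 1, by omega⟩ : Fin m) : ℕ) : ℤ) + 1 = m := by
        simp only
        omega
      rw [h2]
      exact Sga67.CMReg.isGloballyGenerated hF.1 hreg m le_rfl)
    rw [← biproduct.ι_desc q ⟨m - 1, by omega⟩] at h1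
    exact @epi_of_epi _ _ _ _ _ _ _ h1
  · refine SplitsP.biproduct _ fun j => SplitsP.tw _ (splitsP_freeMod _ ?_)
    have := j.2
    constructor <;> omega
  · have key : ∀ j : Fin m, Function.Surjective (hmap ((Sga67.SerreVB.tw d K ((j.1 : ℤ) + 1)).map (biproduct.desc q)) 0) := by
      intro j x
      obtain ⟨y, hy⟩ := hq j x
      refine ⟨hmap ((Sga67.SerreVB.tw d K ((j.1 : ℤ) + 1)).map (biproduct.ι (fun j : Fin m =>
        (Sga67.SerreVB.tw d K (-((j.1 : ℤ) + 1))).obj (FlatMod.freeMod (ProjSpace d K) (N j))) j)) 0 y, ?_⟩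
      rw [← CohqB.HSeqMod.hmap_comp_apply, ← Functor.map_comp, biproduct.ι_desc]
      exact hy
    intro n hn hn'
    obtain ⟨j, rfl⟩ : ∃ j : Fin m, n = (j.1 : ℤ) + 1 := ⟨⟨(n - 1).toNat, by omega⟩, by simp only; omega⟩
    exact key j

/-- The long exact sequence: vanishing for the first term. -/
theorem subsingleton_left {X : Scheme.{u}} {S : ShortComplex X.Modules} (hS : S.ShortExact) (q : ℕ)
    (h₂ : Subsingleton (Coh.HH X S.X₂ (q + 1))) (h₃ : Function.Surjective (hmap S.g q)) :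
    Subsingleton (Coh.HH X S.X₁ (q + 1)) := by
  have key : ∀ x : Coh.HH X S.X₁ (q + 1), x = 0 := fun x => by
    obtain ⟨y, hy⟩ := CohqB.HSeqMod.exact₁ hS q x (Subsingleton.elim _ _)
    obtain ⟨z, rfl⟩ := h₃ y
    rw [← hy, CohqB.HSeqMod.δ_hmap]
  exact ⟨fun x y => (key x).trans (key y).symm⟩

theorem subsingleton_left_zero {X : Scheme.{u}} {S : ShortComplex X.Modules} (hS : S.ShortExact)
    (h₂ : Subsingleton (Coh.HH X S.X₂ 0)) : Subsingleton (Coh.HH X S.X₁ 0) := by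
  have := hS.mono_f
  have key : ∀ x : Coh.HH X S.X₁ 0, x = 0 := fun x => by
    apply (CurvesB.HZero.equivAdd S.X₁).injective
    rw [map_zero]
    obtain ⟨φ, hφ⟩ : ∃ φ, φ = CurvesB.Pairing.secHom S.X₁ (CurvesB.HZero.equivAdd S.X₁ x) := ⟨_, rfl⟩
    have h1 : φ ≫ S.f = 0 := by
      rw [hφ, CurvesB.Pairing.secHom_comp]
      have h2 : S.f.app ⊤ (CurvesB.HZero.equivAdd S.X₁ x) = 0 := by
        refine (CurvesB.HZero.equivAdd_map S.f x).symm.trans ?_
        refine (congrArg (CurvesB.HZero.equivAdd S.X₂) (Subsingleton.elim _ 0)).trans ?_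
        exact map_zero _
      rw [h2, CurvesB.Pairing.secHom_zero]
    have h3 : φ = 0 := (cancel_mono S.f).mp (h1.trans zero_comp.symm)
    rw [← CurvesB.Pairing.homSec_secHom S.X₁ (CurvesB.HZero.equivAdd S.X₁ x), ← hφ, h3,
      ← CurvesB.Pairing.secHom_zero, CurvesB.Pairing.homSec_secHom]
  exact ⟨fun x y => (key x).trans (key y).symm⟩

theorem surjective_of_subsingleton {X : Scheme.{u}} {M N : X.Modules} (f : M ⟶ N) (q : ℕ)
    (h : Subsingleton (Coh.HH X N q)) : Function.Surjective (hmap f q) := fun _ => ⟨0, Subsingleton.elim _ _⟩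

theorem exists_res (hd : 2 ≤ d) (hF : Coh.IsCoh F)
    (hneg : ∀ n : ℤ, n ≤ 0 → Subsingleton (Coh.HH (ProjSpace d K) ((Sga67.SerreVB.tw d K n).obj F) 0))
    (hmid : ∀ (n : ℤ) (i : ℕ), 1 ≤ i → i + 1 < d →
      Subsingleton (Coh.HH (ProjSpace d K) ((Sga67.SerreVB.tw d K n).obj F) i)) :
    ∃ S : ShortComplex (ProjSpace d K).Modules, S.ShortExact ∧ SplitsP (fun a => a < 0) S.X₁ ∧
      SplitsP (fun a => a < 0) S.X₂ ∧ S.X₃ = F := by
  have hnoeth : IsNoetherian (ProjSpace d K) := CohqA.ProjDim.isNoetherian K d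
  obtain ⟨m₀, hm₀⟩ := exists_reg hF
  obtain ⟨m, hm1, hm⟩ : ∃ m : ℕ, 1 ≤ m ∧ Sga67.CMReg.Reg F m :=
    ⟨m₀.toNat + 1, by omega, hm₀.mono hF.1 (by push_cast; omega)⟩
  obtain ⟨G, p, hp, hG, hsurj⟩ := exists_cover hF m hm1 hm
  have hS : (ShortComplex.mk (kernel.ι p) p (kernel.condition p)).ShortExact :=
    { exact := ShortComplex.exact_kernel p }
  have hSn : ∀ n : ℤ, ((ShortComplex.mk (kernel.ι p) p (kernel.condition p)).map (Sga67.SerreVB.tw d K n)).ShortExact :=
    fun n => Gaga.H883.Serre.shortExact_tw d K n hS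
  have hGcoh : Coh.IsCoh G := hG.isCoh
  have hNcoh : Coh.IsCoh (kernel p) := PerfA.CohSerre.isCoh_kernel _ hGcoh hF.1
  have hN0 : ∀ n : ℤ, n ≤ 0 → Subsingleton (Coh.HH (ProjSpace d K) ((Sga67.SerreVB.tw d K n).obj (kernel p)) 0) := fun n hn =>
    subsingleton_left_zero (hSn n) (hG.vanish n 0 (by rintro ⟨-, a, ha, ha'⟩; omega) (by omega))
  have hN1 : ∀ n : ℤ, n ≤ m → Subsingleton (Coh.HH (ProjSpace d K) ((Sga67.SerreVB.tw d K n).obj (kernel p)) 1) := fun n hn => by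
    refine subsingleton_left (hSn n) 0 (hG.vanish n 1 (by omega) (by rintro ⟨h, -⟩; omega)) ?_
    by_cases h : n ≤ 0
    · exact surjective_of_subsingleton _ 0 (hneg n h)
    · exact hsurj n (by omega) hn
  have hNreg : Sga67.CMReg.Reg (kernel p) ((m : ℤ) + 1) := by
    intro q hq hqd
    rcases Nat.exists_eq_add_of_le hq with ⟨q, rfl⟩
    rw [Nat.add_comm 1 q]
    rcases Nat.eq_zero_or_pos q with rfl | hq'
    · have e : (m : ℤ) + 1 - ((0 + 1 : ℕ) : ℤ) = m := by push_cast; ring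
      rw [e]
      exact hN1 m le_rfl
    · refine subsingleton_left (hSn _) q (hG.vanish _ (q + 1) (by omega) ?_) (surjective_of_subsingleton _ q ?_)
      · rintro ⟨-, a, ⟨ha, ha'⟩, ha''⟩
        push_cast at ha''
        omega
      · have e : (m : ℤ) + 1 - ((q + 1 : ℕ) : ℤ) = m - q := by push_cast; ring
        rw [e]
        exact hm q hq' (by omega)
  have hacm : Acm (kernel p) := by
    refine ⟨hNcoh, ⟨0, hN0⟩, fun n i hi hid => ?_⟩
    rcases Nat.exists_eq_add_of_le hi with ⟨i, rfl⟩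
    rw [Nat.add_comm 1 i]
    rcases Nat.eq_zero_or_pos i with rfl | hi'
    · by_cases hn : n ≤ m
      · exact hN1 n hn
      · exact Sga67.CMReg.subsingleton_HH hNcoh.1 hNreg 1 le_rfl n (by push_cast; omega)
    · exact subsingleton_left (hSn _) i (hG.vanish _ (i + 1) (by omega) (by rintro ⟨h, -⟩; omega))
        (surjective_of_subsingleton _ i (hmid n i hi' (by omega)))
  refine ⟨ShortComplex.mk (kernel.ι p) p (kernel.condition p), hS, ?_, ?_, rfl⟩
  · obtain ⟨e⟩ := Sga67.SerreVB.nonempty_tw_zero d K (kernel p)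
    exact Splits.neg (splits_of_acm hacm) (Gaga.H883.Serre.HH_congr e 0 (hN0 0 le_rfl))
  · obtain ⟨ι, hι, a, i, q, hP, h⟩ := hG
    exact ⟨ι, hι, a, i, q, fun j => (hP j).1, h⟩

end K272.GradRes
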