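import Groth.Agent.ProjDual.K272.GradRes
import Groth.Agent.VBPn.K697.LinSeq

/-!
# Resolutions of bundles on `P^2` without sections in nonpositive degrees
-/

set_option autoImplicit false
universe u

open CategoryTheory CategoryTheory.Limits AlgebraicGeometry

namespace K272.NegRes

open Groth.Agent K272.GradRes

variable {k : Type u} [Field k]

/-- `H^0(E(d+1)) = 0` implies `H^0(E(d)) = 0` for `E` finite locally free on `P^(n+1)`. -/
theorem h0_step {n : ℕ} {E : (CohB1.ProjSpace (n + 1) k).Modules} (hE : FlatMod.IsFinLocFree E) (d : ℤ)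
    (h : Subsingleton (Coh.HH (CohB1.ProjSpace (n + 1) k) (CohB1.tensorMod E (Twist.twistProjSpace (n + 1) k (d + 1))) 0)) :
    Subsingleton (Coh.HH (CohB1.ProjSpace (n + 1) k) (CohB1.tensorMod E (Twist.twistProjSpace (n + 1) k d)) 0) := by
  let A : (Fin (n + 1 + 1) → k) →ₗ[k] (Fin (n + 1) → k) := LinearMap.funLeft k k Fin.succ
  have hA : Function.Surjective A := LinearMap.funLeft_surjective_of_injective k k Fin.succ (Fin.succ_injective _)
  let s : Fin (n + 1 + 1) → k := Pi.single 0 1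
  have hs : A s = 0 := by
    funext i
    change s i.succ = 0
    exact Pi.single_eq_of_ne (Fin.succ_ne_zero i) _
  have hs0 : s ≠ 0 := fun h => by
    have := congrFun h 0
    simp [s] at this
  have hker : LinearMap.ker A = Submodule.span k {s} := by
    refine le_antisymm (fun v hv => ?_) (Submodule.span_le.mpr ?_)
    · rw [Submodule.mem_span_singleton]
      refine ⟨v 0, funext fun i => ?_⟩
      refine Fin.cases ?_ (fun i => ?_) i
      · simp [s]
      · have h1 : v i.succ = 0 := congrFun (LinearMap.mem_ker.mp hv) i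
        rw [h1]
        simp [s]
    · rintro _ rfl
      exact hs
  exact subsingleton_left_zero (K697.LinSeq.shortExact_hypSeq hA
    (VarietyB.TensCoh.HasBases.of_isFinLocFree hE) hs hs0 hker (d := d) (d' := d + 1) rfl) h

theorem h0_of_le {n : ℕ} {E : (CohB1.ProjSpace (n + 1) k).Modules} (hE : FlatMod.IsFinLocFree E) {d d' : ℤ} (hd : d ≤ d')
    (h : Subsingleton (Coh.HH (CohB1.ProjSpace (n + 1) k) (CohB1.tensorMod E (Twist.twistProjSpace (n + 1) k d')) 0)) :
    Subsingleton (Coh.HH (CohB1.ProjSpace (n + 1) k) (CohB1.tensorMod E (Twist.twistProjSpace (n + 1) k d)) 0) := by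
  obtain ⟨m, rfl⟩ := Int.le.dest hd
  induction m with
  | zero => simpa using h
  | succ m ih =>
    refine ih (by omega) (h0_step hE _ ?_)
    have e : d + ((m + 1 : ℕ) : ℤ) = d + m + 1 := by push_cast; ring
    rwa [e] at h

theorem exists_res_P2 {E : (CohB1.ProjSpace 2 k).Modules} (hE : FlatMod.IsFinLocFree E)
    (h : Subsingleton (Coh.HH (CohB1.ProjSpace 2 k) (CohB1.tensorMod E (Twist.twistProjSpace 2 k (-1))) 0)) :
    ∃ (r s : ℕ) (kk : Fin r → ℤ) (mm : Fin s → ℤ) (S : ShortComplex (CohB1.ProjSpace 2 k).Modules),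
      S.ShortExact ∧ (∀ i, kk i < 0) ∧ (∀ j, mm j < 0) ∧
      Nonempty (S.X₁ ≅ ∐ fun i : Fin r => Twist.twistProjSpace 2 k (kk i)) ∧
      Nonempty (S.X₂ ≅ ∐ fun j : Fin s => Twist.twistProjSpace 2 k (mm j)) ∧
      Nonempty (S.X₃ ≅ CohB1.tensorMod E (Twist.twistProjSpace 2 k (-1))) := by
  have hnoeth : IsNoetherian (CohB1.ProjSpace 2 k) := CohqA.ProjDim.isNoetherian k 2
  have hEc : Coh.IsCoh E := PerfA.CohSerre.isCoh_of_isFinLocFree hE
  obtain ⟨S, hS, h1, h2, h3⟩ := exists_res (K := k) (d := 2) le_rfl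
    (F := (Sga67.SerreVB.tw 2 k (-1)).obj E) (Sga67.SerreVB.isCoh_tw 2 k hEc (-1))
    (fun n hn => by
      obtain ⟨e⟩ := Sga67.SerreVB.nonempty_tw_tw 2 k (-1) n E
      exact Gaga.H883.Serre.HH_congr e.symm 0 (h0_of_le hE (show -1 + n ≤ -1 by omega) h))
    (fun n i hi hi' => by omega)
  obtain ⟨r, kk, hkk, ⟨e1⟩⟩ := h1.nonempty_iso
  obtain ⟨s, mm, hmm, ⟨e2⟩⟩ := h2.nonempty_iso
  exact ⟨r, s, kk, mm, S, hS, hkk, hmm, ⟨e1⟩, ⟨e2⟩, ⟨eqToIso h3⟩⟩

end K272.NegRes
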