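import Groth.Prelude
import Groth.Agent.VarietyB.DimTop
import Groth.Agent.S1478
import Groth.Agent.Fga.HShift

/-!
# Pure dimension, and dualizing sheaves on the empty scheme
-/

set_option autoImplicit false
universe u

open CategoryTheory CategoryTheory.Limits AlgebraicGeometry

namespace K272.PureDim

open Groth.Agent

theorem dim_eq {T : Type*} [TopologicalSpace T] [Nonempty T] (r : WithBot ℕ∞)
    (h : ∀ Z : Set T, Z ∈ irreducibleComponents T → topologicalKrullDim Z = r) : topologicalKrullDim T = r := by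
  rw [VarietyB.DimTop.topologicalKrullDim_eq_iSup_irreducibleComponents]
  have : Nonempty (irreducibleComponents T) :=
    ⟨⟨irreducibleComponent (Classical.arbitrary T), irreducibleComponent_mem_irreducibleComponents _⟩⟩
  exact (iSup_congr (fun Z : irreducibleComponents T => h (Z : Set T) Z.2)).trans ciSup_const

theorem isZero_of_isEmpty {X : Scheme.{u}} [IsEmpty X] (F : X.Modules) : IsZero F := by
  rw [S1478.isZero_iff_stalk]
  exact fun x => isEmptyElim x

theorem of_isEmpty {k : Type u} [Field k] {X : Scheme.{u}} [X.Over (Spec (CommRingCat.of k))] [IsEmpty X]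
    (ω : X.Modules) (r : ℕ) :
    ∃ t : Coh.HH X ω r →ₗ[k] k, ∀ F : X.Modules, Coh.IsCoh F → ∀ ψ : Coh.HH X F r →ₗ[k] k,
      ∃! φ : F ⟶ ω, ∀ x : Coh.HH X F r,
        ψ x = t (Sheaf.H.map ((SheafOfModules.toSheaf X.ringCatSheaf).map φ) r x) := by
  refine ⟨0, fun F _ ψ => ⟨0, fun x => ?_, fun φ _ => (isZero_of_isEmpty F).eq_of_src _ _⟩⟩
  have h : Subsingleton (Coh.HH X F r) := (Fga.HShift.isZero_HHF_iff ..).1 (Functor.map_isZero _ (isZero_of_isEmpty F))
  rw [h.elim x 0]
  exact (map_zero ψ).trans (LinearMap.zero_apply _).symm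

end K272.PureDim
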